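import Cfsg.Agent.SporB.J1Group

/-!
The element orders of the first Janko group: no element of order 4, elements of order 7, 11, 19 are
self-centralizing, no element of order 30, and elements of order 6, 10, 15 exist.
The centralizers are found by a kernel scan of the element table: an element `x` commuting with `g`
maps the base vector to a vector `u` with `⟨u, g^d u⟩ = ⟨v₀, g^d v₀⟩`.
-/

set_option autoImplicit false
set_option linter.style.haveILetI false
set_option maxRecDepth 20000

namespace Cfsg.Agent.SporB.J1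

open scoped Matrix

local notation "Mat" => Matrix (Fin 7) (Fin 7) (ZMod 11)

/-- The standard inner product modulo 11. -/
def dotN (u v : V7) : ℕ :=
  (u.a * v.a + u.b * v.b + u.c * v.c + u.d * v.d + u.e * v.e + u.f * v.f + u.g * v.g) % 11

theorem cast_dotN (u v : V7) : (dotN u v : ZMod 11) = toV u ⬝ᵥ toV v := by
  simp [dotN, toV, dotProduct, Fin.sum_univ_seven, cast_mod]

/-- The invariants `⟨w, g^d w⟩` for `d ≤ 3`, times `a²`. -/
def invs (g : M7) (w : V7) (a : ℕ) : List ℕ :=
  let w1 := mulV g w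
  let w2 := mulV g w1
  let w3 := mulV g w2
  [a * a * dotN w w % 11, a * a * dotN w w1 % 11, a * a * dotN w w2 % 11, a * a * dotN w w3 % 11]

def sameList : List ℕ → List ℕ → Bool
  | [], [] => true
  | a :: as, b :: bs => Nat.beq a b && sameList as bs
  | _, _ => false

theorem sameList_self : ∀ l : List ℕ, sameList l l = true
  | [] => rfl
  | a :: as => by simp [sameList, sameList_self as]

/-- Every element of row `i` commuting with `g` passes the test `ok`. -/
def centOk (g : M7) (ok : M7 → Bool) (i : ℕ) : Bool :=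
  let r := rowAt i
  let w := decV r.w
  bif (List.range' 1 10).any (fun a => sameList (invs g w a) (invs g v0 1)) then
    (List.range' 0 110).all fun k =>
      let x := mul (dec r.t) (dec (srowAt k).s)
      bif eqb (mul x g) (mul g x) then ok x else true
  else true

def centScan (g : M7) (ok : M7 → Bool) : Bool := (List.range' 0 1596).all (centOk g ok)

theorem transpose_mul_self {x : GL (Fin 7) (ZMod 11)} (hx : x ∈ Cfsg.Spor.J1) :
    (x : Mat)ᵀ * (x : Mat) = 1 := by
  induction hx using Subgroup.closure_induction with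
  | mem y hy =>
    rcases hy with rfl | rfl
    · exact Units.inv_val Cfsg.Spor.jankoX
    · exact Units.inv_val Cfsg.Spor.jankoY
  | one => simp
  | mul y z _ _ hy hz =>
    rw [Units.val_mul, Matrix.transpose_mul, Matrix.mul_assoc, ← Matrix.mul_assoc (y : Mat)ᵀ, hy,
      Matrix.one_mul, hz]
  | inv y _ hy =>
    have h1 : ((y⁻¹ : GL (Fin 7) (ZMod 11)) : Mat) = (y : Mat)ᵀ := by
      calc ((y⁻¹ : GL (Fin 7) (ZMod 11)) : Mat) = (y : Mat)ᵀ * (y : Mat) * ((y⁻¹ : GL (Fin 7) (ZMod 11)) : Mat) := by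
            rw [hy, Matrix.one_mul]
        _ = _ := by rw [Matrix.mul_assoc, Units.mul_inv, Matrix.mul_one]
    rw [h1, Matrix.transpose_transpose]
    exact mul_eq_one_comm.1 hy

theorem dot_mulVec {M : Mat} (h : Mᵀ * M = 1) (u v : Fin 7 → ZMod 11) :
    M.mulVec u ⬝ᵥ M.mulVec v = u ⬝ᵥ v := by
  rw [Matrix.dotProduct_mulVec, ← Matrix.mulVec_transpose, Matrix.mulVec_mulVec, h, Matrix.one_mulVec]

theorem eqbV_rowMul_of_toV_eq {u u' : V7} {B D : M7} (h : toV (rowMul u B) = toV (rowMul u' D)) :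
    eqbV (rowMul u B) (rowMul u' D) = true := by
  have e : ∀ a b : ℕ, ((a % 11 : ℕ) : ZMod 11) = ((b % 11 : ℕ) : ZMod 11) → a % 11 = b % 11 := by
    intro a b hab
    simpa [Nat.mod_mod] using (ZMod.natCast_eq_natCast_iff' _ _ 11).1 hab
  have h0 := e _ _ (congrFun h 0)
  have h1 := e _ _ (congrFun h 1)
  have h2 := e _ _ (congrFun h 2)
  have h3 := e _ _ (congrFun h 3)
  have h4 := e _ _ (congrFun h 4)
  have h5 := e _ _ (congrFun h 5)
  have h6 := e _ _ (congrFun h 6)
  simp only [eqbV, rowMul, h0, h1, h2, h3, h4, h5, h6, Nat.beq_refl, Bool.and_self]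

theorem eqb_mul_of_toM_eq {A B C D : M7} (h : toM (mul A B) = toM (mul C D)) :
    eqb (mul A B) (mul C D) = true := by
  simp only [eqb, mul, Bool.and_eq_true]
  exact ⟨⟨⟨⟨⟨⟨eqbV_rowMul_of_toV_eq (congrFun h 0), eqbV_rowMul_of_toV_eq (congrFun h 1)⟩,
    eqbV_rowMul_of_toV_eq (congrFun h 2)⟩, eqbV_rowMul_of_toV_eq (congrFun h 3)⟩,
    eqbV_rowMul_of_toV_eq (congrFun h 4)⟩, eqbV_rowMul_of_toV_eq (congrFun h 5)⟩,
    eqbV_rowMul_of_toV_eq (congrFun h 6)⟩

theorem centScan_spec {g : M7} {ok : M7 → Bool} (h : centScan g ok = true) (x : Cfsg.Spor.J1)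
    (hc : Commute ((x : GL (Fin 7) (ZMod 11)) : Mat) (toM g)) :
    ∃ A : M7, toM A = ((x : GL (Fin 7) (ZMod 11)) : Mat) ∧ ok A = true := by
  obtain ⟨i, hi, k, hk, e⟩ := exists_el x.2
  have hok : centOk g ok i = true := List.all_eq_true.1 h i (by simp [List.mem_range'_1, hi])
  obtain ⟨-, -, -, -, -, -, -, hl⟩ := row_spec hi
  simp only [lineOk, Bool.and_eq_true] at hl
  obtain ⟨⟨⟨⟨c0, c1⟩, cv⟩, -⟩, -⟩ := hl
  obtain ⟨-, -, hl0, -, -, hlv, -, -, -⟩ := srow_spec hk
  set a := (rowAt i).c * (srowAt k).l % 11 with ha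
  have haz : (a : ZMod 11) = ((rowAt i).c : ZMod 11) * ((srowAt k).l : ZMod 11) := by
    rw [ha, cast_mod, Nat.cast_mul]
  have ha1 : 1 ≤ a := by
    rcases Nat.eq_zero_or_pos a with h0 | h0
    · exfalso
      haveI : Fact (Nat.Prime 11) := ⟨by norm_num⟩
      rw [h0, Nat.cast_zero] at haz
      rcases mul_eq_zero.1 haz.symm with hz | hz
      · rw [ZMod.natCast_eq_zero_iff] at hz
        have := Nat.le_of_dvd (blt_of c0) hz
        have := blt_of c1
        omega
      · exact hl0 hz
    · exact h0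
  set X : Mat := ((x : GL (Fin 7) (ZMod 11)) : Mat) with hX
  set w := decV (rowAt i).w
  have hXv : X.mulVec (toV v0) = (a : ZMod 11) • toV w := by
    rw [e, el, ← Matrix.mulVec_mulVec, hlv, Matrix.mulVec_smul, tm, ← toV_mulV, eqbV_eq cv,
      toV_smulV, smul_smul, haz, mul_comm]
  have key : ∀ d : ℕ, (a : ZMod 11) * (a : ZMod 11) * (toV w ⬝ᵥ ((toM g) ^ d).mulVec (toV w)) =
      toV v0 ⬝ᵥ ((toM g) ^ d).mulVec (toV v0) := by
    intro d
    rw [← dot_mulVec (M := X) (transpose_mul_self x.2) (toV v0) (((toM g) ^ d).mulVec (toV v0))]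
    rw [Matrix.mulVec_mulVec _ X, (hc.pow_right d).eq, ← Matrix.mulVec_mulVec, hXv, Matrix.mulVec_smul,
      smul_dotProduct, dotProduct_smul, smul_eq_mul, smul_eq_mul]
    ring
  have hsame : invs g w a = invs g v0 1 := by
    have hh : ∀ (d : ℕ) (u u' : V7), toV u = ((toM g) ^ d).mulVec (toV w) →
        toV u' = ((toM g) ^ d).mulVec (toV v0) →
        a * a * dotN w u % 11 = 1 * 1 * dotN v0 u' % 11 := by
      intro d u u' hu hu'
      refine (ZMod.natCast_eq_natCast_iff' _ _ 11).1 ?_
      push_cast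
      simp only [cast_dotN, hu, hu', key, one_mul]
    simp only [invs]
    rw [hh 0 w v0 (by simp) (by simp),
      hh 1 (mulV g w) (mulV g v0) (by simp [toV_mulV]) (by simp [toV_mulV]),
      hh 2 (mulV g (mulV g w)) (mulV g (mulV g v0)) (by simp [toV_mulV, pow_two]) (by simp [toV_mulV, pow_two]),
      hh 3 (mulV g (mulV g (mulV g w))) (mulV g (mulV g (mulV g v0)))
        (by simp [toV_mulV, pow_succ, Matrix.mul_assoc]) (by simp [toV_mulV, pow_succ, Matrix.mul_assoc])]
  have hany : (List.range' 1 10).any (fun a => sameList (invs g w a) (invs g v0 1)) = true := by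
    refine List.any_eq_true.2 ⟨a, ?_, by rw [hsame]; exact sameList_self _⟩
    have : a < 11 := Nat.mod_lt _ (by norm_num)
    simp [List.mem_range'_1]
    omega
  simp only [centOk] at hok
  rw [show decV (rowAt i).w = w from rfl, hany, cond_true] at hok
  have hk' := List.all_eq_true.1 hok k (by simp [List.mem_range'_1, hk])
  refine ⟨mul (dec (rowAt i).t) (dec (srowAt k).s), by rw [toM_mul, e]; rfl, ?_⟩
  cases hb : eqb (mul (mul (dec (rowAt i).t) (dec (srowAt k).s)) g)
      (mul g (mul (dec (rowAt i).t) (dec (srowAt k).s)))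
  · exfalso
    have heq : toM (mul (mul (dec (rowAt i).t) (dec (srowAt k).s)) g) =
        toM (mul g (mul (dec (rowAt i).t) (dec (srowAt k).s))) := by
      rw [toM_mul, toM_mul g, toM_mul]
      have := hc.eq
      rw [e] at this
      exact this
    rw [eqb_mul_of_toM_eq heq] at hb
    exact Bool.noConfusion hb
  · simpa [hb] using hk'

def powOk (p : ℕ) (A : M7) : Bool := eqb (powM A p) oneM

def u5' : Wit := ⟨37785930434739402552932622738932718499287164744290440280422, 0, 2⟩
def x6 : Wit := ⟨40908875637556769664265500764645183880658142002129618337876, 209, 40⟩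
def x10 : Wit := ⟨12740072996503198855848681918570136267508863616010452277267, 522, 15⟩
def x15 : Wit := ⟨12568307696007159637768489090020185156914709879965269239674, 999, 3⟩

theorem scan7 : centScan (dec u7.code) (powOk 7) = true := by decide +kernel
theorem scan19 : centScan (dec u19.code) (powOk 19) = true := by decide +kernel
theorem scan11 : centScan (dec u11.code) (powOk 11) = true := by decide +kernel
theorem scan5 : centScan (dec u5'.code) (fun A => powOk 10 A || powOk 15 A) = true := by decide +kernel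

def ordOk (w : Wit) (ms : List ℕ) (n : ℕ) : Bool :=
  w.ok && eqb (powM (dec w.code) n) oneM &&
    ms.all fun m => !Nat.beq (enc (toM (powM (dec w.code) m))) 6277101736848182401506974708411517874814724153223283736577

theorem ord7 : ordOk u7 [1] 7 = true := by decide +kernel
theorem ord19 : ordOk u19 [1] 19 = true := by decide +kernel
theorem ord11 : ordOk u11 [1] 11 = true := by decide +kernel
theorem ord5 : ordOk u5' [1] 5 = true := by decide +kernel
theorem ord6 : ordOk x6 [3, 2] 6 = true := by decide +kernel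
theorem ord10 : ordOk x10 [5, 2] 10 = true := by decide +kernel
theorem ord15 : ordOk x15 [5, 3] 15 = true := by decide +kernel

theorem powOk_spec {x : Cfsg.Spor.J1} {A : M7} (hA : toM A = ((x : GL (Fin 7) (ZMod 11)) : Mat))
    {p : ℕ} (h : powOk p A = true) : x ^ p = 1 := by
  refine val_inj ?_
  rw [Subgroup.coe_pow, Units.val_pow_eq_pow_val, ← hA, ← powM_spec, eqb_eq h, toM_oneM]
  rfl

theorem ordOk_spec {w : Wit} {ms : List ℕ} {n : ℕ} (h : ordOk w ms n = true) :
    ∃ x : Cfsg.Spor.J1, ((x : GL (Fin 7) (ZMod 11)) : Mat) = toM (dec w.code) ∧ x ^ n = 1 ∧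
      ∀ m ∈ ms, x ^ m ≠ 1 := by
  simp only [ordOk, Bool.and_eq_true, List.all_eq_true, Bool.not_eq_true'] at h
  obtain ⟨⟨hw, hn⟩, hms⟩ := h
  obtain ⟨x, hx⟩ := wit_mem hw
  refine ⟨x, hx, powOk_spec hx.symm hn, fun m hm e => ?_⟩
  have h1 := hms m hm
  have e' : toM (powM (dec w.code) m) = 1 := by
    rw [powM_spec, ← hx, ← Units.val_pow_eq_pow_val, ← Subgroup.coe_pow, e]; rfl
  rw [e', show enc (1 : Mat) = 6277101736848182401506974708411517874814724153223283736577 by decide +kernel,
    Nat.beq_refl] at h1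
  exact Bool.noConfusion h1

theorem card_J1_factor (p : ℕ) (hp : p ∈ ({3, 5, 7, 11, 19} : Finset ℕ)) :
    (Nat.card Cfsg.Spor.J1).factorization p = 1 := by
  have hp' : p.Prime := by
    simp only [Finset.mem_insert, Finset.mem_singleton] at hp
    rcases hp with rfl | rfl | rfl | rfl | rfl <;> norm_num
  rw [card_J1]
  refine le_antisymm ?_ (hp'.factorization_pos_of_dvd (by norm_num) ?_)
  · by_contra hc
    push Not at hc
    have := (hp'.pow_dvd_iff_le_factorization (k := 2) (by norm_num)).2 hc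
    simp only [Finset.mem_insert, Finset.mem_singleton] at hp
    rcases hp with rfl | rfl | rfl | rfl | rfl <;> norm_num at this
  · simp only [Finset.mem_insert, Finset.mem_singleton] at hp
    rcases hp with rfl | rfl | rfl | rfl | rfl <;> norm_num

/-- If a power of `y` has prime order `r` with `r² ∤ |G|`, some conjugate of `y` commutes with a given element of order `r`. -/
theorem exists_conj_commute {G : Type*} [Group G] [Finite G] (r : ℕ) [Fact r.Prime]
    (hsyl : (Nat.card G).factorization r = 1) (g : G) (hg : orderOf g = r) (y : G)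
    (hy : r ∣ orderOf y) : ∃ k : G, Commute (k * y * k⁻¹) g := by
  set z := y ^ (orderOf y / r) with hz
  have hoz : orderOf z = r := orderOf_pow_orderOf_div (orderOf_pos y).ne' hy
  let P : Sylow r G := Sylow.ofCard (Subgroup.zpowers z) (by rw [Nat.card_zpowers, hoz, hsyl, pow_one])
  let Q : Sylow r G := Sylow.ofCard (Subgroup.zpowers g) (by rw [Nat.card_zpowers, hg, hsyl, pow_one])
  obtain ⟨k, hk⟩ := MulAction.exists_smul_eq G P Q
  have hmem : g ∈ (k • P : Sylow r G) := by rw [hk]; exact Subgroup.mem_zpowers g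
  obtain ⟨w, ⟨j, rfl⟩, hwg⟩ := hmem
  have : Commute y (z ^ j) := ((Commute.refl y).pow_right _).zpow_right _
  exact ⟨k, hwg ▸ Commute.map this (MulAut.conj k).toMonoidHom⟩

theorem conj_eq (k y : Cfsg.Spor.J1) (n : ℕ) (h : (k * y * k⁻¹) ^ n = 1) : y ^ n = 1 := by
  rw [conj_pow] at h
  exact conj_eq_one_iff.1 h

theorem eq_of_dvd_orderOf {p : ℕ} (hp : p = 7 ∨ p = 11 ∨ p = 19) {y : Cfsg.Spor.J1}
    (hy : p ∣ orderOf y) : orderOf y = p := by
  have key : ∀ (w : Wit), ordOk w [1] p = true → centScan (dec w.code) (powOk p) = true →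
      p.Prime → (Nat.card Cfsg.Spor.J1).factorization p = 1 → orderOf y = p := by
    intro w ho hs hpr hf
    haveI := Fact.mk hpr
    obtain ⟨g, hgv, hgp, hg1⟩ := ordOk_spec ho
    have hgo : orderOf g = p := orderOf_eq_prime hgp (by simpa using hg1 1 (by simp))
    obtain ⟨k, hk⟩ := exists_conj_commute p hf g hgo y hy
    obtain ⟨A, hA, hA'⟩ := centScan_spec hs (k * y * k⁻¹) (by
      rw [← hgv, Commute, SemiconjBy, ← Units.val_mul, ← Units.val_mul, ← Subgroup.coe_mul,
        ← Subgroup.coe_mul, hk.eq])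
    exact Nat.dvd_antisymm (orderOf_dvd_of_pow_eq_one (conj_eq k y p (powOk_spec hA hA'))) hy
  rcases hp with rfl | rfl | rfl
  · exact key u7 ord7 scan7 (by norm_num) (card_J1_factor 7 (by simp))
  · exact key u11 ord11 scan11 (by norm_num) (card_J1_factor 11 (by simp))
  · exact key u19 ord19 scan19 (by norm_num) (card_J1_factor 19 (by simp))

theorem orderOf_five_cases {y : Cfsg.Spor.J1} (hy : 5 ∣ orderOf y) :
    orderOf y ∣ 10 ∨ orderOf y ∣ 15 := by
  haveI : Fact (Nat.Prime 5) := ⟨by norm_num⟩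
  obtain ⟨g, hgv, hgp, hg1⟩ := ordOk_spec ord5
  have hgo : orderOf g = 5 := orderOf_eq_prime hgp (by simpa using hg1 1 (by simp))
  obtain ⟨k, hk⟩ := exists_conj_commute 5 (card_J1_factor 5 (by simp)) g hgo y hy
  obtain ⟨A, hA, hA'⟩ := centScan_spec scan5 (k * y * k⁻¹) (by
    rw [← hgv, Commute, SemiconjBy, ← Units.val_mul, ← Units.val_mul, ← Subgroup.coe_mul,
      ← Subgroup.coe_mul, hk.eq])
  rcases Bool.or_eq_true_iff.1 hA' with h | h
  · exact Or.inl (orderOf_dvd_of_pow_eq_one (conj_eq k y _ (powOk_spec hA h)))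
  · exact Or.inr (orderOf_dvd_of_pow_eq_one (conj_eq k y _ (powOk_spec hA h)))

def elemOk : Bool :=
  s0.ok && s1.ok && s2.ok &&
    powOk 2 (dec s0.code) && powOk 2 (dec s1.code) && powOk 2 (dec s2.code) &&
    eqb (mul (dec s0.code) (dec s1.code)) (mul (dec s1.code) (dec s0.code)) &&
    eqb (mul (dec s0.code) (dec s2.code)) (mul (dec s2.code) (dec s0.code)) &&
    eqb (mul (dec s1.code) (dec s2.code)) (mul (dec s2.code) (dec s1.code))

theorem elem_ok : elemOk = true := by decide +kernel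

def eightCodes : List ℕ :=
  let a := dec s0.code
  let b := dec s1.code
  let c := dec s2.code
  [oneM, a, b, c, mul a b, mul a c, mul b c, mul (mul a b) c].map fun m => enc (toM m)

theorem eight_nodup : eightCodes.Nodup := by decide +kernel

/-- There is no element of order 4. -/
theorem not_four_dvd (y : Cfsg.Spor.J1) : ¬ 4 ∣ orderOf y := by
  classical
  intro h4
  haveI : Fact (Nat.Prime 2) := ⟨Nat.prime_two⟩
  have h := elem_ok
  simp only [elemOk, Bool.and_eq_true] at h
  obtain ⟨⟨⟨⟨⟨⟨⟨⟨ha, hb⟩, hc⟩, ha2⟩, hb2⟩, hc2⟩, hab⟩, hac⟩, hbc⟩ := h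
  obtain ⟨a, hav⟩ := wit_mem ha
  obtain ⟨b, hbv⟩ := wit_mem hb
  obtain ⟨c, hcv⟩ := wit_mem hc
  have comm : ∀ {x y : Cfsg.Spor.J1} {u v : Wit}, ((x : GL (Fin 7) (ZMod 11)) : Mat) = toM (dec u.code) →
      ((y : GL (Fin 7) (ZMod 11)) : Mat) = toM (dec v.code) →
      eqb (mul (dec u.code) (dec v.code)) (mul (dec v.code) (dec u.code)) = true → x * y = y * x := by
    intro x y u v hx hy e
    refine val_inj ?_
    simp only [Subgroup.coe_mul, Units.val_mul, hx, hy, ← toM_mul, eqb_eq e]
  set E : Subgroup Cfsg.Spor.J1 := Subgroup.closure {a, b, c} with hE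
  have hcomm : ∀ x ∈ E, ∀ z ∈ E, x * z = z * x := by
    have hset : ∀ x ∈ ({a, b, c} : Set Cfsg.Spor.J1), ∀ z ∈ ({a, b, c} : Set Cfsg.Spor.J1), x * z = z * x := by
      rintro x (rfl | rfl | rfl) z (rfl | rfl | rfl)
      all_goals first
        | rfl
        | exact comm hav hbv hab
        | exact (comm hav hbv hab).symm
        | exact comm hav hcv hac
        | exact (comm hav hcv hac).symm
        | exact comm hbv hcv hbc
        | exact (comm hbv hcv hbc).symm
    intro x hx z hz
    induction hx, hz using Subgroup.closure_induction₂ with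
    | mem x z hx hz => exact hset x hx z hz
    | one_left x _ => simp
    | one_right x _ => simp
    | mul_left x x' z _ _ _ h1 h2 => exact (Commute.mul_left h1 h2)
    | mul_right z x x' _ _ _ h1 h2 => exact (Commute.mul_right h1 h2)
    | inv_left x z _ _ h1 => exact (Commute.inv_left h1)
    | inv_right x z _ _ h1 => exact (Commute.inv_right h1)
  have hexp : ∀ x ∈ E, x ^ 2 = 1 := by
    intro x hx
    induction hx using Subgroup.closure_induction with
    | mem x hx =>
      rcases hx with rfl | rfl | rfl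
      exacts [powOk_spec hav.symm ha2, powOk_spec hbv.symm hb2, powOk_spec hcv.symm hc2]
    | one => simp
    | mul x z hx hz h1 h2 => rw [Commute.mul_pow (hcomm x hx z hz), h1, h2, one_mul]
    | inv x _ h1 => rw [inv_pow, h1, inv_one]
  have hpE : IsPGroup 2 E := fun x => ⟨1, Subtype.ext (by rw [pow_one]; exact hexp x x.2)⟩
  have h8 : 8 ≤ Nat.card E := by
    have memA : a ∈ E := Subgroup.subset_closure (by simp)
    have memB : b ∈ E := Subgroup.subset_closure (by simp)
    have memC : c ∈ E := Subgroup.subset_closure (by simp)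
    let g : Fin 8 → E := ![1, ⟨a, memA⟩, ⟨b, memB⟩, ⟨c, memC⟩, ⟨a * b, mul_mem memA memB⟩,
      ⟨a * c, mul_mem memA memC⟩, ⟨b * c, mul_mem memB memC⟩, ⟨a * b * c, mul_mem (mul_mem memA memB) memC⟩]
    have hcode : ∀ i : Fin 8, enc (((g i).1 : GL (Fin 7) (ZMod 11)) : Mat) = eightCodes[i.1]'(by simp [eightCodes]) := by
      intro i
      fin_cases i <;>
        simp [g, eightCodes, Subgroup.coe_mul, Units.val_mul, hav, hbv, hcv, toM_mul, toM_oneM]
    have hinj : Function.Injective g := by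
      intro i j hij
      have := hcode i
      rw [hij, hcode j] at this
      exact Fin.ext ((List.Nodup.getElem_inj_iff eight_nodup).1 this).symm
    simpa using Nat.card_le_card_of_injective g hinj
  obtain ⟨Q, hQ⟩ := hpE.exists_le_sylow
  have hQcard : Nat.card Q = 8 := by rw [Sylow.card_eq_multiplicity, card_J1]; decide +kernel
  have hQeq : E = (Q : Subgroup Cfsg.Spor.J1) :=
    Subgroup.eq_of_le_of_card_ge hQ (by rw [hQcard]; exact h8)
  set w := y ^ (orderOf y / 4) with hw
  have hwo : orderOf w = 4 := orderOf_pow_orderOf_div (orderOf_pos y).ne' h4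
  have hpw : IsPGroup 2 (Subgroup.zpowers w) := IsPGroup.of_card (n := 2) (by rw [Nat.card_zpowers, hwo]; rfl)
  obtain ⟨P, hP⟩ := hpw.exists_le_sylow
  obtain ⟨k, hk⟩ := MulAction.exists_smul_eq Cfsg.Spor.J1 P Q
  have hkw : k * w * k⁻¹ ∈ E := by
    rw [hQeq, ← hk, Sylow.coe_subgroup_smul]
    exact Subgroup.smul_mem_pointwise_smul w (MulAut.conj k) P.1 (hP (Subgroup.mem_zpowers w))
  have := orderOf_dvd_of_pow_eq_one (conj_eq k w 2 (hexp _ hkw))
  rw [hwo] at this
  norm_num at this

/-- The element orders of `J₁` that matter: squarefree, `7, 11, 19` isolated, never `30`. -/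
theorem orderOf_facts (y : Cfsg.Spor.J1) :
    orderOf y ∣ 6 ∨ orderOf y ∣ 10 ∨ orderOf y ∣ 15 ∨ orderOf y = 7 ∨ orderOf y = 11 ∨ orderOf y = 19 := by
  by_cases h7 : 7 ∣ orderOf y
  · exact Or.inr (Or.inr (Or.inr (Or.inl (eq_of_dvd_orderOf (Or.inl rfl) h7))))
  by_cases h11 : 11 ∣ orderOf y
  · exact Or.inr (Or.inr (Or.inr (Or.inr (Or.inl (eq_of_dvd_orderOf (Or.inr (Or.inl rfl)) h11)))))
  by_cases h19 : 19 ∣ orderOf y
  · exact Or.inr (Or.inr (Or.inr (Or.inr (Or.inr (eq_of_dvd_orderOf (Or.inr (Or.inr rfl)) h19)))))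
  have hd : orderOf y ∣ 175560 := card_J1 ▸ orderOf_dvd_natCard y
  have hd2 : orderOf y ∣ 8 * 15 := by
    have hc : (orderOf y).Coprime (7 * 11 * 19) :=
      Nat.Coprime.mul_right (Nat.Coprime.mul_right ((Nat.Prime.coprime_iff_not_dvd (by norm_num)).2 h7).symm
        ((Nat.Prime.coprime_iff_not_dvd (by norm_num)).2 h11).symm)
        ((Nat.Prime.coprime_iff_not_dvd (by norm_num)).2 h19).symm
    exact hc.dvd_of_dvd_mul_right (by simpa using hd)
  have h4 := not_four_dvd y
  by_cases h5 : 5 ∣ orderOf y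
  · rcases orderOf_five_cases h5 with h | h
    · exact Or.inr (Or.inl h)
    · exact Or.inr (Or.inr (Or.inl h))
  · refine Or.inl ?_
    have hm : orderOf y ∈ Nat.divisors (8 * 15) := Nat.mem_divisors.2 ⟨hd2, by norm_num⟩
    have key : ∀ d ∈ Nat.divisors (8 * 15), ¬ 4 ∣ d → ¬ 5 ∣ d → d ∣ 6 := by decide +kernel
    exact key _ hm h4 h5

theorem exists_six_ten_fifteen :
    (∃ x : Cfsg.Spor.J1, orderOf x = 6) ∧ (∃ x : Cfsg.Spor.J1, orderOf x = 10) ∧
    (∃ x : Cfsg.Spor.J1, orderOf x = 15) := by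
  have key : ∀ (w : Wit) (n a b : ℕ), ordOk w [a, b] n = true → 0 < n →
      (∀ p : ℕ, p.Prime → p ∣ n → n / p = a ∨ n / p = b) → ∃ x : Cfsg.Spor.J1, orderOf x = n := by
    intro w n a b h hn hp
    obtain ⟨x, -, hx, hne⟩ := ordOk_spec h
    refine ⟨x, orderOf_eq_of_pow_and_pow_div_prime hn hx fun p hpp hpn => ?_⟩
    rcases hp p hpp hpn with e | e <;> rw [e] <;> exact hne _ (by simp)
  have two : ∀ q r p : ℕ, q.Prime → r.Prime → p.Prime → p ∣ q * r → q * r / p = r ∨ q * r / p = q := by
    intro q r p hq hr hp h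
    rcases hp.dvd_mul.1 h with h' | h'
    · obtain rfl := (Nat.prime_dvd_prime_iff_eq hp hq).1 h'
      exact Or.inl (Nat.mul_div_cancel_left _ hp.pos)
    · obtain rfl := (Nat.prime_dvd_prime_iff_eq hp hr).1 h'
      exact Or.inr (Nat.mul_div_cancel _ hp.pos)
  exact ⟨key x6 6 3 2 ord6 (by norm_num) (fun p hp h => two 2 3 p Nat.prime_two Nat.prime_three hp h),
    key x10 10 5 2 ord10 (by norm_num) (fun p hp h => two 2 5 p Nat.prime_two (by norm_num) hp h),
    key x15 15 5 3 ord15 (by norm_num) (fun p hp h => two 3 5 p Nat.prime_three (by norm_num) hp h)⟩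

end Cfsg.Agent.SporB.J1
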