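import Cfsg.Agent.SporB.J1Data

set_option autoImplicit false
set_option linter.all false

/-! Witness elements for the simplicity of J1. -/

namespace Cfsg.Agent.SporB.J1

/-- an element given by its code and its position in the element table -/
structure Wit where
  (code i k : ℕ)

def h : Wit := ⟨6485930825895364671768819062656152245349089251436795302995, 8, 58⟩

def s0 : Wit := ⟨52971022076083082643745680845986916665210855351176155919974, 953, 50⟩

def s1 : Wit := ⟨63237615510910469143692763625078856130140436343262935620266, 1154, 52⟩

def s2 : Wit := ⟨33029142797783095227146353253799906925531333788423969654106, 1346, 39⟩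

def s3 : Wit := ⟨2089601202940038719028374259418999647529836038298912904614, 173, 57⟩

def s4 : Wit := ⟨7270302942904341379941260996491709083895625708416595559331, 114, 101⟩

def s5 : Wit := ⟨27074845401819534768929820848698343590460859144930619111254, 245, 4⟩

def s6 : Wit := ⟨28717838615674571375424299782108036097746231659873448593554, 611, 65⟩

def u2 : Wit := ⟨52971022076083082643745680845986916665210855351176155919974, 953, 50⟩

def g2 : Wit := ⟨45362218387763682411635034564557498258060882089991838320136, 0, 41⟩

def w2 : Wit := ⟨28100145280085595638431714108563890786889189815511885830694, 531, 43⟩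

def u3 : Wit := ⟨45667464433942987957324567841337006994595732919503590265625, 660, 87⟩

def g3 : Wit := ⟨3313593835212960574105641115047123612366794561463899396356, 0, 4⟩

def w3 : Wit := ⟨20117745525239549170320909911531086847157753545247704033588, 459, 50⟩

def u5 : Wit := ⟨7480991916830962229115210795734213009165743696062808893992, 2, 0⟩

def g5 : Wit := ⟨14971148478418836814625063293374839298852072588052618435172, 0, 16⟩

def w5 : Wit := ⟨20512868259868349762407322203182220874890152705807005296516, 749, 92⟩

def u7 : Wit := ⟨397528445359450111623404940514766352372066718580752, 1, 0⟩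

def g7 : Wit := ⟨20241244203486764425379844831246547714905714989690475615747, 0, 14⟩

def w7 : Wit := ⟨46332472816242326401640767164423773676877723943692006794852, 88, 0⟩

def u11 : Wit := ⟨46013882014816491388025896736632243525830289530250640790887, 0, 10⟩

def g11 : Wit := ⟨53210669740113640149848116394795737622340682273741969908649, 1, 1⟩

def w11 : Wit := ⟨41616889512644035174264130850910946923628833043914721525881, 591, 29⟩

def u19 : Wit := ⟨16510445667746903951538944577473475861500186355589633362308, 50, 76⟩

def g19 : Wit := ⟨19088210938441019798652662429562467431753386270086041666089, 0, 3⟩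

def w19 : Wit := ⟨45271486798109546862287711637729917035820507880398300481380, 731, 14⟩

def Wit.ok (w : Wit) : Bool :=
  Nat.blt w.i 1596 && Nat.blt w.k 110 &&
    eqb (mul (dec (rowAt w.i).t) (dec (srowAt w.k).s)) (dec w.code)

def oneM : M7 := dec 6277101736848182401506974708411517874814724153223283736577

def powM (A : M7) : ℕ → M7
  | 0 => oneM
  | n + 1 => mul (powM A n) A

def cyc : List Wit := [s0, s1, s2, s3, s4, s5, s6]

def cycTab : List ℕ := [7, 5, 3, 2, 6, 1, 4, 5, 7, 6, 4, 3, 0, 2, 3, 6, 7, 0, 5, 4, 1, 2, 4, 0, 7, 1, 6, 5, 6, 3, 5, 1, 7, 2, 0, 1, 0, 4, 6, 2, 7, 3, 4, 2, 1, 5, 0, 3, 7]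

def cycAt (i : ℕ) : Wit := cyc.getD i s0

def cycOk : Bool :=
  (List.range' 0 7).all (fun i =>
    (cycAt i).ok && eqb (mul (dec h.code) (dec (cycAt i).code)) (mul (dec (cycAt ((i + 1) % 7)).code) (dec h.code)) &&
    Nat.beq (enc (toM (dec (cycAt i).code))) (cycAt i).code) &&
  (List.range' 0 7).all (fun a => (List.range' 0 7).all (fun b =>
    let r := cycTab.getD (7 * a + b) 8
    bif Nat.beq r 7 then eqb (mul (dec (cycAt a).code) (dec (cycAt b).code)) oneM
    else Nat.blt r 7 && eqb (mul (dec (cycAt a).code) (dec (cycAt b).code)) (dec (cycAt r).code))) &&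
  h.ok && (cyc.map (fun w => w.code)).Nodup && !(cyc.map (fun w => w.code)).contains 6277101736848182401506974708411517874814724153223283736577

/-- `w` is the commutator of `g` and `u`, of order dividing `q` -/
def commOk (p q : ℕ) (u g w : Wit) : Bool :=
  u.ok && g.ok && w.ok && eqb (powM (dec u.code) p) oneM &&
    !(Nat.beq u.code 6277101736848182401506974708411517874814724153223283736577) && Nat.beq (enc (toM (dec u.code))) u.code &&
    !(Nat.beq w.code 6277101736848182401506974708411517874814724153223283736577) && Nat.beq (enc (toM (dec w.code))) w.code &&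
    eqb (powM (dec w.code) q) oneM &&
    eqb (mul (mul (dec w.code) (dec u.code)) (dec g.code)) (mul (dec g.code) (dec u.code))

theorem cyc_ok : cycOk = true := by decide +kernel

theorem comm_ok_2 : commOk 2 7 u2 g2 w2 = true := by decide +kernel

theorem comm_ok_3 : commOk 3 7 u3 g3 w3 = true := by decide +kernel

theorem comm_ok_5 : commOk 5 7 u5 g5 w5 = true := by decide +kernel

theorem comm_ok_7 : commOk 7 5 u7 g7 w7 = true := by decide +kernel

theorem comm_ok_11 : commOk 11 7 u11 g11 w11 = true := by decide +kernel

theorem comm_ok_19 : commOk 19 7 u19 g19 w19 = true := by decide +kernel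

theorem base_ok : (Nat.beq (rowAt 0).t 6277101736848182401506974708411517874814724153223283736577 && Nat.beq (srowAt 0).s 6277101736848182401506974708411517874814724153223283736577 &&
    Nat.beq (rowAt 78).jy 35 &&
    Nat.beq (rowAt 78).ky 10 &&
    Nat.beq (rowAt 119).jy 63 &&
    Nat.beq (rowAt 119).ky 1 &&
    Nat.beq u7.code 397528445359450111623404940514766352372066718580752 && Nat.beq u5.code 7480991916830962229115210795734213009165743696062808893992 && Nat.beq s0.code u2.code) = true := by decide +kernel

theorem toM_code_X : toM (dec 397528445359450111623404940514766352372066718580752) = Cfsg.jankoMatrixX := by decide +kernel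

theorem toM_code_Y : toM (dec 7480991916830962229115210795734213009165743696062808893992) = Cfsg.jankoMatrixY := by decide +kernel

theorem toM_oneM : toM oneM = 1 := by decide +kernel

end Cfsg.Agent.SporB.J1
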