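import Cfsg.Agent.SporB.J1InvFast

set_option autoImplicit false
set_option maxRecDepth 20000

namespace Cfsg.Agent.SporB.J1.Inv

theorem fast_ok_2 : (List.range' 800 400).all centFast = true := by decide +kernel

end Cfsg.Agent.SporB.J1.Inv
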