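import Cfsg.Agent.SporB.J1InvScan0
import Cfsg.Agent.SporB.J1InvScan1
import Cfsg.Agent.SporB.J1InvScan2
import Cfsg.Agent.SporB.J1InvScan3

set_option autoImplicit false
set_option linter.all false
set_option maxRecDepth 20000

/-! The centralizer of an involution of J1: kernel checks of the table. -/

namespace Cfsg.Agent.SporB.J1.Inv

open Equiv

theorem base_spec : baseOk = true := by decide +kernel

theorem steps_spec : (List.range' 0 60).all stepOk = true := by decide +kernel

theorem codes_nodup : ((List.range' 0 60).map fun i => enc (toM (codeAt i))).Nodup := by decide +kernel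

theorem perms_nodup : ((List.range' 0 60).map fun i => (List.ofFn fun x => ((permAt i x : Fin 5) : ℕ))).Nodup := by
  decide +kernel

theorem t_not_mem : ((List.range' 0 60).map fun i => enc (toM (codeAt i))).contains (enc (toM tM)) = false := by
  decide +kernel

theorem colsGood_spec : colsGood = true := by decide +kernel

theorem colsCover_spec : colsCover = true := by decide +kernel

theorem scanT : centScan tM (fun A => both.any (eqb A)) = true := by
  rw [centScan, List.all_eq_true]
  intro i hi
  refine centOk_of_centFast colsGood_spec colsCover_spec ?_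
  simp only [List.mem_range'_1] at hi
  rcases lt_or_ge i 400 with h0 | h0
  · exact List.all_eq_true.1 fast_ok_0 i (List.mem_range'_1.2 ⟨by omega, by omega⟩)
  rcases lt_or_ge i 800 with h1 | h1
  · exact List.all_eq_true.1 fast_ok_1 i (List.mem_range'_1.2 ⟨by omega, by omega⟩)
  rcases lt_or_ge i 1200 with h2 | h2
  · exact List.all_eq_true.1 fast_ok_2 i (List.mem_range'_1.2 ⟨by omega, by omega⟩)
  exact List.all_eq_true.1 fast_ok_3 i (List.mem_range'_1.2 ⟨by omega, by omega⟩)

end Cfsg.Agent.SporB.J1.Inv
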