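import Cfsg.Agent.SporB.J1InvData

set_option autoImplicit false
set_option linter.all false
set_option maxRecDepth 20000

/-! The centralizer of an involution of J1: definitions for the kernel checks, with a fast filter. -/

namespace Cfsg.Agent.SporB.J1.Inv

open Equiv

def codeAt (i : ℕ) : M7 := dec (codes.getD i 0)

def permAt (i : ℕ) : Perm (Fin 5) := perms.getD i 1

/-- right multiplication by the generators follows the tables -/
def stepOk (i : ℕ) : Bool :=
  Nat.blt (ra.getD i 60) 60 && Nat.blt (rb.getD i 60) 60 &&
    eqb (mul (codeAt i) (dec wa.code)) (codeAt (ra.getD i 60)) &&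
    eqb (mul (codeAt i) (dec wb.code)) (codeAt (rb.getD i 60)) &&
    decide (permAt i * pa = permAt (ra.getD i 60)) && decide (permAt i * pb = permAt (rb.getD i 60)) &&
    (bif Nat.beq i 0 then true else
      Nat.blt (par.getD i (0, true)).1 i &&
        bif (par.getD i (0, true)).2 then Nat.beq (ra.getD (par.getD i (0, true)).1 60) i
        else Nat.beq (rb.getD (par.getD i (0, true)).1 60) i)

def tM : M7 := dec s0.code

def both : List M7 := (List.range' 0 60).map codeAt ++ (List.range' 0 60).map fun i => mul tM (codeAt i)

def baseOk : Bool :=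
  wa.ok && wb.ok && s0.ok && powOk 2 tM && eqb (codeAt 0) oneM && decide (permAt 0 = 1) &&
    eqb (mul (dec wa.code) tM) (mul tM (dec wa.code)) && eqb (mul (dec wb.code) tM) (mul tM (dec wb.code)) &&
    decide (Perm.sign pa = 1) && decide (Perm.sign pb = 1) &&
    !Nat.beq (enc (toM tM)) 6277101736848182401506974708411517874814724153223283736577

def cols : List (ℕ × List (ℕ × ℕ)) := [
  (73769009, [(0, 176269168), (10, 43190928), (20, 176174201), (30, 139756691), (40, 41558354), (50, 25404326), (60, 71805585), (70, 60854306), (80, 35869537), (90, 138545719), (100, 84972450)]),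
  (37245046, [(1, 155480705), (11, 71897859), (21, 103915832), (31, 100870801), (41, 142055984), (51, 175187777), (61, 105055640), (71, 151216213), (81, 126883666), (91, 110262929), (101, 109092867)]),
  (24412307, [(2, 92946743), (12, 155668513), (22, 161120278), (32, 159920788), (42, 1350041), (52, 125997859), (62, 39328265), (72, 33619988), (82, 7743250), (92, 73766826), (102, 145053024)]),
  (110248103, [(3, 53112964), (13, 138884665), (23, 117637946), (33, 24521072), (43, 109121570), (53, 468806), (63, 154686596), (73, 41985298), (83, 40900441), (93, 107383411), (103, 10966134)]),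
  (60891225, [(4, 58160137), (14, 87245616), (24, 38302724), (34, 44237639), (44, 145117473), (54, 38227975), (64, 153295480), (74, 167858465), (84, 27273555), (94, 1515680), (104, 38430980)]),
  (123080842, [(5, 160983130), (15, 58261892), (25, 111159321), (35, 20583488), (45, 153616672), (55, 19957570), (65, 57095976), (75, 155294313), (85, 171448341), (95, 125047082), (105, 135274649)]),
  (159604805, [(6, 86589738), (16, 87035912), (26, 41371962), (36, 124954632), (46, 92936835), (56, 84447530), (66, 54796672), (76, 21664890), (86, 91751971), (96, 34099302), (106, 69248105)]),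
  (172437544, [(7, 157524226), (17, 151650471), (27, 4560041), (37, 123085841), (47, 51799632), (57, 103905924), (67, 41181338), (77, 35729573), (87, 36931879), (97, 10953250), (107, 70854808)]),
  (86601748, [(8, 87728281), (18, 300149), (28, 42166071), (38, 154146473), (48, 155231330), (58, 89469256), (68, 1337157), (78, 143736887), (88, 57968002), (98, 67635329), (108, 172331584)]),
  (135958626, [(9, 158421511), (19, 138692354), (29, 109607040), (39, 158549767), (49, 152569972), (59, 51735194), (69, 158621700), (79, 43557187), (89, 17459866), (99, 168858216), (109, 10784784)])]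

def rowInv (w : V7) : Bool :=
  (List.range' 1 10).any fun a => sameList (invs tM w a) (invs tM v0 1)

def colOk (T : M7) (u : V7) (c : ℕ × ℕ) : Bool :=
  bif eqbV (mulV T (decV c.2)) u then
    let x := mul T (dec (srowAt c.1).s)
    bif eqb (mul x tM) (mul tM x) then both.any (eqb x) else true
  else true

def groupOk (T : M7) (c : ℕ × List (ℕ × ℕ)) : Bool :=
  let u := mulV tM (mulV T (decV c.1))
  c.2.all (colOk T u)

def centFast (i : ℕ) : Bool :=
  bif rowInv (decV (rowAt i).w) then cols.all (groupOk (dec (rowAt i).t)) else true

def colsGood : Bool :=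
  cols.all fun c => c.2.all fun p =>
    eqbV (mulV (dec (srowAt p.1).s) (mulV tM v0)) (decV p.2) && eqbV (mulV (dec (srowAt p.1).s) v0) (decV c.1)

def colsCover : Bool :=
  (List.range' 0 110).all fun k => cols.any fun c => c.2.any fun p => Nat.beq p.1 k

theorem eqbV_mulV_of_toV_eq {A B : M7} {u v : V7} (h : toV (mulV A u) = toV (mulV B v)) :
    eqbV (mulV A u) (mulV B v) = true := by
  have e : ∀ a b : ℕ, ((a % 11 : ℕ) : ZMod 11) = ((b % 11 : ℕ) : ZMod 11) → a % 11 = b % 11 := by
    intro a b hab
    simpa [Nat.mod_mod] using (ZMod.natCast_eq_natCast_iff' _ _ 11).1 hab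
  have h0 := e _ _ (congrFun h 0)
  have h1 := e _ _ (congrFun h 1)
  have h2 := e _ _ (congrFun h 2)
  have h3 := e _ _ (congrFun h 3)
  have h4 := e _ _ (congrFun h 4)
  have h5 := e _ _ (congrFun h 5)
  have h6 := e _ _ (congrFun h 6)
  simp only [eqbV, mulV, h0, h1, h2, h3, h4, h5, h6, Nat.beq_refl, Bool.and_self]

theorem centOk_of_centFast (hgood : colsGood = true) (hcov : colsCover = true) {i : ℕ}
    (h : centFast i = true) : centOk tM (fun A => both.any (eqb A)) i = true := by
  simp only [centFast, rowInv] at h
  simp only [centOk]
  cases hr : (List.range' 1 10).any (fun a => sameList (invs tM (decV (rowAt i).w) a) (invs tM v0 1)) with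
  | false => rfl
  | true =>
    rw [hr, cond_true] at h
    rw [cond_true]
    refine List.all_eq_true.2 fun k hk => ?_
    cases hx : eqb (mul (mul (dec (rowAt i).t) (dec (srowAt k).s)) tM)
        (mul tM (mul (dec (rowAt i).t) (dec (srowAt k).s))) with
    | false => rfl
    | true =>
      obtain ⟨c, hc, hc'⟩ := List.any_eq_true.1 (List.all_eq_true.1 hcov k hk)
      obtain ⟨p, hp, hpk⟩ := List.any_eq_true.1 hc'
      obtain rfl : p.1 = k := by simpa using hpk
      have hg := List.all_eq_true.1 (List.all_eq_true.1 hgood c hc) p hp
      rw [Bool.and_eq_true] at hg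
      have ey := eqbV_eq hg.1
      have ez := eqbV_eq hg.2
      have hcol := List.all_eq_true.1 (List.all_eq_true.1 h c hc) p hp
      simp only [colOk] at hcol
      have hpass : eqbV (mulV (dec (rowAt i).t) (decV p.2))
          (mulV tM (mulV (dec (rowAt i).t) (decV c.1))) = true := by
        refine eqbV_mulV_of_toV_eq ?_
        rw [← ey, ← ez]
        have hm := congrArg toM (eqb_eq hx)
        simp only [toM_mul] at hm
        simp only [toV_mulV, Matrix.mulVec_mulVec]
        rw [← Matrix.mul_assoc, hm]
      rw [hpass, cond_true, hx, cond_true] at hcol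
      rw [cond_true]
      exact hcol

end Cfsg.Agent.SporB.J1.Inv
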